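import Groth.Agent.Lib.NormStalk17.Scheme
import Groth.Agent.Lib.CurveCoh17.EtaleEuler
import Groth.Agent.Lib.Cyc26.DegC1
import Groth.Agent.Lib.CohFound.RpushCoh
import Groth.Agent.Lib.RefHull26.Dual
import Groth.Agent.Lib.WeilH13.Count
import Groth.Agent.Lib.VB17.Proper
import Groth.Prelude.Def_Curv2

/-!
# The Euler characteristic of the normalisation of a reduced curve
-/

set_option linter.style.haveILetI false
set_option autoImplicit false
set_option maxHeartbeats 1600000
set_option backward.isDefEq.respectTransparency.types false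

universe u

open CategoryTheory TopologicalSpace Opposite CategoryTheory.Limits AlgebraicGeometry

namespace Groth.Agent.NormStalk17

open Groth.Agent.M1 Groth.Agent.M2 Groth.Agent.CurveCoh17

attribute [local instance] stalkMod Curv2.resAlgebra

variable {X X' : Scheme.{u}} [IsNoetherian X] [AlgebraicGeometry.IsReduced X] (π : X' ⟶ X) [IsFinite π]

/-- The cokernel of `O → π_* O` has length the δ-invariant. -/
theorem length_coker (hX' : Pi1.IsNormalScheme X') (U : X.Opens) (hU : Dense (U : Set X))
    (hU' : Dense ((π ⁻¹ᵁ U : X'.Opens) : Set X')) [IsIso (π ∣_ U)] (x : X) :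
    Module.length (X.presheaf.stalk x) ((cokernel (ClSub.unitToPush π)).presheaf.stalk x) =
      Curv2.deltaInv (X.presheaf.stalk x) := by
  obtain ⟨e, he⟩ := exists_stalk_equiv π hX' U hU hU' x
  let A := X.presheaf.stalk x
  have hsurj : Function.Surjective (stalkLin (cokernel.π (ClSub.unitToPush π)) x) :=
    (epi_iff_stalk (cokernel.π (ClSub.unitToPush π))).1 inferInstance x
  have hker : LinearMap.ker (stalkLin (cokernel.π (ClSub.unitToPush π)) x) =
      LinearMap.range (stalkLin (ClSub.unitToPush π) x) := by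
    refine le_antisymm (fun b hb => ?_) ?_
    · exact (exact_iff_stalk_eq_zero (ShortComplex.mk _ (cokernel.π (ClSub.unitToPush π)) (cokernel.condition _))).1
        (ShortComplex.exact_cokernel _) x b hb
    · rintro _ ⟨a, rfl⟩
      rw [LinearMap.mem_ker, ← stalkLin_comp, cokernel.condition]
      show (stalkAb x).map (0 : Coh.structureModule X ⟶ cokernel (ClSub.unitToPush π)) a = 0
      rw [Functor.map_zero]
      rfl
  have hrange : (LinearMap.range (stalkLin (ClSub.unitToPush π) x)).map e.toLinearMap =
      LinearMap.range (Algebra.linearMap A (integralClosure A (FractionRing A))) := by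
    have key : ∀ r : A, e (stalkLin (ClSub.unitToPush π) x (RH26.str x r)) =
        algebraMap A (integralClosure A (FractionRing A)) r := fun r => by
      rw [RH26.str_apply, map_smul, map_smul, Algebra.algebraMap_eq_smul_one]
      exact congrArg (r • ·) he
    ext c
    constructor
    · rintro ⟨_, ⟨a, rfl⟩, rfl⟩
      obtain ⟨r, rfl⟩ := (RH26.str x).surjective a
      exact ⟨r, (key r).symm⟩
    · rintro ⟨r, rfl⟩
      exact ⟨_, ⟨_, rfl⟩, key r⟩
  unfold Curv2.deltaInv
  rw [← ((stalkLin (cokernel.π (ClSub.unitToPush π)) x).quotKerEquivOfSurjective hsurj).length_eq]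
  exact (Submodule.Quotient.equiv _ _ e (by rw [hker]; exact hrange)).length_eq

variable {k : Type u} [Field k] [X.Over (Spec (CommRingCat.of k))] [IsProper (X ↘ Spec (CommRingCat.of k))]
  [X'.Over (Spec (CommRingCat.of k))]

/-- `χ(O_X') = χ(O_X) + Σ [κ(x):k] δ_x`. -/
theorem euler_eq (hdim : topologicalKrullDim X ≤ 1) (hπ : π ≫ (X ↘ Spec (CommRingCat.of k)) = X' ↘ Spec (CommRingCat.of k))
    (hX' : Pi1.IsNormalScheme X') (U : X.Opens) (hU : Dense (U : Set X))
    (hU' : Dense ((π ⁻¹ᵁ U : X'.Opens) : Set X')) [IsIso (π ∣_ U)] (F : X → ℤ)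
    (hF : ∀ x, IsClosed ({x} : Set X) →
      F x = (Module.finrank k (X.residueField x) : ℤ) * ((Curv2.deltaInv (X.presheaf.stalk x)).toNat : ℤ))
    (hF0 : ∀ x, ¬ IsClosed ({x} : Set X) → F x = 0) :
    Curv2.euler k X' (Coh.structureModule X') = Curv2.euler k X (Coh.structureModule X) + ∑ᶠ x, F x := by
  haveI := isNoetherian_of_finite π
  have like : CurveLike k X :=
    ⟨inferInstance, VB17.isSeparated_of_over (k := k), hdim, fun M hM n => VB17.fin_of_proper M hM n⟩
  haveI : Mono (ClSub.unitToPush π) := (M1.mono_iff_app _).2 fun W => injective_app_of_dense π U hU W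
  have hP : Coh.IsCoh (pushO π) := by
    haveI : (Scheme.Modules.pushforward π).IsRightAdjoint :=
      (Scheme.Modules.pullbackPushforwardAdjunction π).isRightAdjoint
    haveI : PreservesFiniteLimits (Scheme.Modules.pushforward π) := inferInstance
    exact CohFound.isCoh_of_iso ((Functor.rightDerivedZeroIsoSelf _).app _)
      (CohFound.isCoh_rpush π CurveCoh17.isCoh_structureModule 0)
  have hQ : Coh.IsCoh (cokernel (ClSub.unitToPush π)) :=
    M1.isCoh_cokernel (CurveCoh17.isCoh_structureModule (X := X)).1 hP _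
  obtain ⟨S, hS⟩ := exists_suppIn_of_maximal hdim hQ fun g hg a =>
    eq_zero_stalk_cokernel _ g (surjective_stalkLin_unitToPush π U (mem_of_dense_of_maximal hU hg)) a
  have hT : (ShortComplex.mk (ClSub.unitToPush π) (cokernel.π _) (cokernel.condition _)).ShortExact :=
    { exact := ShortComplex.exact_cokernel _ }
  have hadd := euler_add hT (like.adm (CurveCoh17.isCoh_structureModule (X := X))) (like.adm hQ)
  change Curv2.euler k X (pushO π) = _ at hadd
  rw [euler_pushO π hπ, hS.euler_eq (like.fin _ hQ 0), (hS.h0Equiv k).finrank_eq] at hadd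
  haveI := fun x : S => hS.finite_stalk (like.fin _ hQ 0) x
  rw [Module.finrank_pi_fintype, Nat.cast_sum] at hadd
  rw [hadd]
  congr 1
  have hlen := fun x => length_coker π hX' U hU hU' x
  have hzero : ∀ x, x ∉ S → Curv2.deltaInv (X.presheaf.stalk x) = 0 := fun x hx => by
    haveI : Subsingleton ((cokernel (ClSub.unitToPush π)).presheaf.stalk x) :=
      ⟨fun a b => (hS.zero x hx a).trans (hS.zero x hx b).symm⟩
    rw [← hlen x]
    exact Module.length_eq_zero
  rw [Finset.sum_coe_sort S fun x => ((Module.finrank k ((cokernel (ClSub.unitToPush π)).presheaf.stalk x) : ℕ) : ℤ),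
    finsum_eq_sum_of_support_subset F (s := S) fun x hx => by
      by_contra hxS
      refine hx ?_
      by_cases hc : IsClosed ({x} : Set X)
      · rw [hF x hc, hzero x hxS]; simp
      · exact hF0 x hc]
  refine Finset.sum_congr rfl fun x hx => ?_
  rw [hF x (hS.closed x hx), ← hlen x]
  letI : Algebra k (X.presheaf.stalk x) := (stalkRingMap k x).toAlgebra
  haveI : IsScalarTower k (X.presheaf.stalk x) ((cokernel (ClSub.unitToPush π)).presheaf.stalk x) :=
    IsScalarTower.of_algebraMap_smul fun _ _ => rfl
  haveI : Module.Finite k ((cokernel (ClSub.unitToPush π)).presheaf.stalk x) :=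
    hS.finite_stalk (like.fin _ hQ 0) ⟨x, hx⟩
  haveI : Module.Finite k (IsLocalRing.ResidueField (X.presheaf.stalk x)) :=
    WeilH13.finite_residueField_of_isClosed (X ↘ Spec (CommRingCat.of k)) x (hS.closed x hx)
  rw [Cyc26.finrank_eq_length_mul (k := k) (R := X.presheaf.stalk x)]
  push_cast
  rw [mul_comm]
  rfl

end Groth.Agent.NormStalk17
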