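import Mathlib.RingTheory.IntegralClosure.IntegrallyClosed
import Mathlib.RingTheory.IntegralClosure.IsIntegralClosure.Basic
import Mathlib.RingTheory.LocalProperties.Basic
import Mathlib.RingTheory.Localization.FractionRing

/-!
# A finite birational extension by a normal ring is the integral closure
-/

set_option autoImplicit false
set_option maxHeartbeats 800000

universe u

open scoped nonZeroDivisors

namespace Groth.Agent.NormStalk17

variable {B : Type u} [CommRing B]

/-- A ring whose localisations at maximal ideals are integrally closed domains is integrally closed. -/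
theorem mem_range_of_isIntegral
    (hloc : ∀ (P : Ideal B) [P.IsMaximal],
      IsDomain (Localization.AtPrime P) ∧ IsIntegrallyClosed (Localization.AtPrime P))
    {z : FractionRing B} (hz : IsIntegral B z) : ∃ b, algebraMap B (FractionRing B) b = z := by
  obtain ⟨⟨b, c⟩, hbc⟩ := IsLocalization.surj B⁰ z
  suffices h : b ∈ Ideal.span {(c : B)} by
    obtain ⟨d, hd⟩ := Ideal.mem_span_singleton'.1 h
    refine ⟨d, (IsLocalization.map_units (FractionRing B) c).mul_right_cancel ?_⟩
    rw [hbc, ← map_mul, hd]
  refine Ideal.mem_of_localization_maximal fun P hP => ?_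
  haveI := (hloc P).1
  haveI := (hloc P).2
  let K := FractionRing (Localization.AtPrime P)
  have hne : ∀ c : B⁰, algebraMap B (Localization.AtPrime P) c ≠ 0 := fun c h => by
    obtain ⟨t, ht⟩ := (IsLocalization.map_eq_zero_iff P.primeCompl (Localization.AtPrime P) (c : B)).1 h
    exact t.2 (by rw [(mem_nonZeroDivisors_iff.1 c.2).2 (t : B) ht]; exact P.zero_mem)
  let ψ : FractionRing B →+* K :=
    IsLocalization.lift (M := B⁰) (g := (algebraMap (Localization.AtPrime P) K).comp (algebraMap B _)) fun c =>
      isUnit_iff_ne_zero.2 fun h => hne c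
        (IsFractionRing.injective (Localization.AtPrime P) K (h.trans (map_zero _).symm))
  have hψ : ∀ a, ψ (algebraMap B (FractionRing B) a) = algebraMap (Localization.AtPrime P) K (algebraMap B _ a) :=
    fun a => IsLocalization.lift_eq _ a
  have hint : IsIntegral (Localization.AtPrime P) (ψ z) := by
    obtain ⟨p, hp, hpz⟩ := hz
    refine ⟨p.map (algebraMap B (Localization.AtPrime P)), hp.map _, ?_⟩
    rw [Polynomial.eval₂_map, show (algebraMap (Localization.AtPrime P) K).comp (algebraMap B _) =
      ψ.comp (algebraMap B (FractionRing B)) from RingHom.ext fun a => (hψ a).symm, ← Polynomial.hom_eval₂, hpz,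
      map_zero]
  obtain ⟨w, hw⟩ := IsIntegrallyClosed.isIntegral_iff.1 hint
  rw [Ideal.map_span, Set.image_singleton, Ideal.mem_span_singleton']
  refine ⟨w, IsFractionRing.injective (Localization.AtPrime P) K ?_⟩
  rw [map_mul, hw, ← hψ, ← hψ, ← map_mul, hbc]

/-- A finite birational normal extension is the integral closure in the total ring of fractions. -/
theorem nonempty_algEquiv_integralClosure {A : Type u} [CommRing A] [Algebra A B] [Algebra.IsIntegral A B]
    (hinj : Function.Injective (algebraMap A B))
    (hloc : ∀ (P : Ideal B) [P.IsMaximal],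
      IsDomain (Localization.AtPrime P) ∧ IsIntegrallyClosed (Localization.AtPrime P))
    (s : A) (hs : s ∈ A⁰) (hsB : algebraMap A B s ∈ B⁰)
    (hsurj : ∀ b : B, ∃ (n : ℕ) (a : A), algebraMap A B (s ^ n) * b = algebraMap A B a) :
    Nonempty (B ≃ₐ[A] integralClosure A (FractionRing A)) := by
  have hnzd : ∀ a ∈ A⁰, algebraMap A B a ∈ B⁰ := fun a ha => by
    refine mem_nonZeroDivisors_iff_right.2 fun b hb => ?_
    obtain ⟨n, a', ha'⟩ := hsurj b
    have h0 : a' * a = 0 := hinj (by rw [map_mul, ← ha', mul_assoc, hb, mul_zero, map_zero])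
    rw [mem_nonZeroDivisors_iff_right] at ha
    rw [ha a' h0, map_zero, map_pow] at ha'
    exact (mem_nonZeroDivisors_iff.1 (pow_mem hsB n)).1 b ha'
  let ψ : FractionRing A →+* FractionRing B :=
    IsLocalization.lift (M := A⁰) (g := (algebraMap B (FractionRing B)).comp (algebraMap A B)) fun a =>
      IsLocalization.map_units (FractionRing B) (⟨_, hnzd a a.2⟩ : B⁰)
  have hψ : ∀ a, ψ (algebraMap A (FractionRing A) a) = algebraMap B (FractionRing B) (algebraMap A B a) :=
    fun a => IsLocalization.lift_eq _ a
  have hψinj : Function.Injective ψ := (IsLocalization.lift_injective_iff _).2 fun x y => by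
    rw [(IsFractionRing.injective A (FractionRing A)).eq_iff, RingHom.comp_apply, RingHom.comp_apply,
      (IsFractionRing.injective B (FractionRing B)).eq_iff, hinj.eq_iff]
  have hψB : ∀ b : B, ∃ z, ψ z = algebraMap B (FractionRing B) b := fun b => by
    obtain ⟨n, a, ha⟩ := hsurj b
    refine ⟨IsLocalization.mk' (FractionRing A) a (⟨s ^ n, pow_mem hs n⟩ : A⁰), ?_⟩
    refine (IsLocalization.map_units (FractionRing B) (⟨_, hnzd _ (pow_mem hs n)⟩ : B⁰)).mul_right_cancel ?_
    show ψ _ * algebraMap B (FractionRing B) (algebraMap A B (s ^ n)) =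
      algebraMap B (FractionRing B) b * algebraMap B (FractionRing B) (algebraMap A B (s ^ n))
    have e1 : IsLocalization.mk' (FractionRing A) a (⟨s ^ n, pow_mem hs n⟩ : A⁰) * algebraMap A _ (s ^ n) =
        algebraMap A (FractionRing A) a := IsLocalization.mk'_spec _ a (⟨s ^ n, pow_mem hs n⟩ : A⁰)
    rw [← hψ, ← map_mul, e1, hψ, hψ, ← map_mul, mul_comm b, ha]
  choose ρ hρ using hψB
  have hint : ∀ z, IsIntegral A z ↔ ∃ b : B, ρ b = z := by
    intro z
    constructor
    · intro hz
      have h1 : IsIntegral B (ψ z) := by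
        obtain ⟨p, hp, hpz⟩ := hz
        refine ⟨p.map (algebraMap A B), hp.map _, ?_⟩
        rw [Polynomial.eval₂_map, show (algebraMap B (FractionRing B)).comp (algebraMap A B) =
          ψ.comp (algebraMap A (FractionRing A)) from RingHom.ext fun a => (hψ a).symm, ← Polynomial.hom_eval₂, hpz,
          map_zero]
      obtain ⟨b, hb⟩ := mem_range_of_isIntegral hloc h1
      exact ⟨b, hψinj ((hρ b).trans hb)⟩
    · rintro ⟨b, rfl⟩
      obtain ⟨p, hp, hpb⟩ := Algebra.IsIntegral.isIntegral (R := A) b
      refine ⟨p, hp, hψinj ?_⟩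
      rw [map_zero, Polynomial.hom_eval₂, hρ, show ψ.comp (algebraMap A (FractionRing A)) =
        (algebraMap B (FractionRing B)).comp (algebraMap A B) from RingHom.ext hψ, ← Polynomial.hom_eval₂, hpb,
        map_zero]
  let Λ : B →ₐ[A] integralClosure A (FractionRing A) :=
    { toFun := fun b => ⟨ρ b, (hint _).2 ⟨b, rfl⟩⟩
      map_one' := Subtype.ext (hψinj (by rw [hρ]; simp))
      map_mul' := fun b c => Subtype.ext (hψinj (by simp [hρ]))
      map_zero' := Subtype.ext (hψinj (by rw [hρ]; simp))
      map_add' := fun b c => Subtype.ext (hψinj (by simp [hρ]))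
      commutes' := fun a => Subtype.ext (hψinj (by rw [hρ]; exact (hψ a).symm)) }
  refine ⟨AlgEquiv.ofBijective Λ ⟨fun b c h => ?_, fun z => ?_⟩⟩
  · exact IsFractionRing.injective B (FractionRing B) ((hρ b).symm.trans ((congrArg ψ (congrArg Subtype.val h)).trans (hρ c)))
  · obtain ⟨b, hb⟩ := (hint z.1).1 z.2
    exact ⟨b, Subtype.ext hb⟩

end Groth.Agent.NormStalk17
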