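import Groth.Agent.Lib.NormStalk17.Algebra
import Groth.Agent.Lib.CurveCoh17.Birational
import Groth.Agent.Lib.CurveCoh17.SelfTensor
import Groth.Agent.Lib.ModM1.Stalk
import Groth.Prelude.Def_Pi1
import Mathlib.AlgebraicGeometry.Morphisms.Finite
import Mathlib.Algebra.Module.LocalizedModule.IsLocalization

/-!
# The stalks of the direct image from the normalisation of a reduced scheme
-/

set_option linter.style.haveILetI false
set_option autoImplicit false
set_option maxHeartbeats 1600000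
set_option backward.isDefEq.respectTransparency.types false

universe u

open CategoryTheory TopologicalSpace Opposite CategoryTheory.Limits AlgebraicGeometry
open scoped nonZeroDivisors

namespace Groth.Agent.NormStalk17

open Groth.Agent.M1 Groth.Agent.M2 Groth.Agent.CurveCoh17

/-- A function invertible at all maximal points of an open of a reduced scheme is a nonzerodivisor. -/
theorem mem_nonZeroDivisors_of_maximal {Z : Scheme.{u}} [IsNoetherian Z] [AlgebraicGeometry.IsReduced Z] {V : Z.Opens}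
    (s : Γ(Z, V)) (h : ∀ g ∈ V, (∀ y, y ⤳ g → y = g) → g ∈ Z.basicOpen s) : s ∈ (Γ(Z, V))⁰ := by
  refine mem_nonZeroDivisors_iff_right.2 fun a ha => (basicOpen_eq_bot_iff a).1 ?_
  ext y
  simp only [TopologicalSpace.Opens.coe_bot, Set.mem_empty_iff_false, iff_false]
  intro hy
  obtain ⟨g, hgy, hg⟩ := exists_maximal_generization y
  have hga : g ∈ Z.basicOpen a := hgy.mem_open (Z.basicOpen a).2 hy
  have hgs := h g (Z.basicOpen_le a hga) hg
  have : g ∈ Z.basicOpen (a * s) := by rw [Scheme.basicOpen_mul]; exact ⟨hga, hgs⟩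
  rw [ha, Scheme.basicOpen_zero] at this
  exact this

/-- A single function cutting an affine open down into `U` and invertible at the maximal points. -/
theorem exists_function {X : Scheme.{u}} [IsNoetherian X] (U : X.Opens) (hU : Dense (U : Set X)) {V : X.Opens}
    (hV : IsAffineOpen V) :
    ∃ s : Γ(X, V), X.basicOpen s ≤ U ∧ ∀ g ∈ V, (∀ y, y ⤳ g → y = g) → g ∈ X.basicOpen s := by
  classical
  let I : Ideal Γ(X, V) :=
    { carrier := {s | X.basicOpen s ≤ U}
      zero_mem' := by simp only [Set.mem_setOf_eq, Scheme.basicOpen_zero]; exact bot_le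
      add_mem' := fun {a b} ha hb z hz => by
        by_cases h : z ∈ X.basicOpen a
        · exact ha h
        · refine hb ?_
          have hzV := X.basicOpen_le _ hz
          rw [X.mem_basicOpen _ z hzV] at h hz ⊢
          rw [map_add] at hz
          exact (IsLocalRing.isUnit_or_isUnit_of_isUnit_add hz).resolve_left h
      smul_mem' := fun c a ha z hz => by
        rw [smul_eq_mul, Scheme.basicOpen_mul] at hz
        exact ha hz.2 }
  have hfin : ({g : X | g ∈ V ∧ ∀ y, y ⤳ g → y = g}).Finite := finite_maximal.subset fun g hg => hg.2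
  let P : X → Ideal Γ(X, V) := fun g => if h : g ∈ V then (hV.primeIdealOf ⟨g, h⟩).asIdeal else ⊥
  have hPmem : ∀ g (h : g ∈ V) (s : Γ(X, V)), s ∈ P g ↔ g ∉ X.basicOpen s := fun g h s => by
    letI := TopCat.Presheaf.algebra_section_stalk X.presheaf (⟨g, h⟩ : V)
    haveI := hV.isLocalization_stalk ⟨g, h⟩
    simp only [P, dif_pos h]
    rw [X.mem_basicOpen s g h, ← IsLocalization.AtPrime.to_map_mem_maximal_iff (X.presheaf.stalk g)
      (hV.primeIdealOf ⟨g, h⟩).asIdeal s, IsLocalRing.mem_maximalIdeal, mem_nonunits_iff]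
    rfl
  by_contra hne
  push Not at hne
  have hsub : (I : Set Γ(X, V)) ⊆ ⋃ g ∈ (hfin.toFinset : Set X), (P g : Set Γ(X, V)) := fun s hs => by
    obtain ⟨g, hg, hgm, hgs⟩ := hne s hs
    exact Set.mem_iUnion₂.2 ⟨g, by simpa using ⟨hg, hgm⟩, (hPmem g hg s).2 hgs⟩
  have hprime : ∀ g ∈ hfin.toFinset, (P g).IsPrime := fun g hg => by
    have h : g ∈ V := (hfin.mem_toFinset.1 hg).1
    simp only [P, dif_pos h]
    exact (hV.primeIdealOf ⟨g, h⟩).isPrime
  obtain ⟨g₀, -, -⟩ := Set.mem_iUnion₂.1 (hsub I.zero_mem)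
  obtain ⟨g, hg, hle⟩ := (Ideal.subset_union_prime g₀ g₀ (fun g hg _ _ => hprime g hg)).1 hsub
  obtain ⟨hgV, hgm⟩ := hfin.mem_toFinset.1 hg
  obtain ⟨s, hsU, hgs⟩ := hV.exists_basicOpen_le ⟨g, mem_of_dense_of_maximal hU hgm⟩ hgV
  exact (hPmem g hgV s).1 (hle (show s ∈ I from hsU)) hgs

variable {X X' : Scheme.{u}} [IsNoetherian X] [AlgebraicGeometry.IsReduced X] (π : X' ⟶ X) [IsFinite π]

theorem isReduced_of_normal {Z : Scheme.{u}} (hZ : Pi1.IsNormalScheme Z) : AlgebraicGeometry.IsReduced Z :=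
  haveI : ∀ z : Z, _root_.IsReduced (Z.presheaf.stalk z) := fun z => by haveI := (hZ z).1; infer_instance
  isReduced_of_isReduced_stalk Z

include π in
omit [AlgebraicGeometry.IsReduced X] in
theorem isNoetherian_of_finite : IsNoetherian X' :=
  haveI := LocallyOfFiniteType.isLocallyNoetherian π
  haveI : CompactSpace X' := QuasiCompact.compactSpace_of_compactSpace π
  {}

/-- The stalk of `π_* O` is the integral closure of the local ring. -/
theorem exists_stalk_equiv (hX' : Pi1.IsNormalScheme X') (U : X.Opens) (hU : Dense (U : Set X))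
    (hU' : Dense ((π ⁻¹ᵁ U : X'.Opens) : Set X')) [IsIso (π ∣_ U)] (x : X) :
    ∃ e : (pushO π).presheaf.stalk x ≃ₗ[X.presheaf.stalk x]
        integralClosure (X.presheaf.stalk x) (FractionRing (X.presheaf.stalk x)),
      e (stalkLin (ClSub.unitToPush π) x ((Coh.structureModule X).presheaf.germ ⊤ x trivial (one ⊤))) = 1 := by
  haveI := isReduced_of_normal hX'
  haveI := isNoetherian_of_finite π
  obtain ⟨_, ⟨V, hV, rfl⟩, hxV, -⟩ :=
    X.isBasis_affineOpens.exists_subset_of_mem_open (Set.mem_univ x) isOpen_univ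
  change x ∈ V at hxV
  have hW : IsAffineOpen (π ⁻¹ᵁ V) := hV.preimage π
  letI : Algebra Γ(X, V) Γ(X', π ⁻¹ᵁ V) := (π.app V).hom.toAlgebra
  haveI : Module.Finite Γ(X, V) Γ(X', π ⁻¹ᵁ V) := π.finite_app V hV
  obtain ⟨s, hsU, hsmax⟩ := exists_function U hU hV
  have hs : s ∈ (Γ(X, V))⁰ := mem_nonZeroDivisors_of_maximal s hsmax
  have hmaxU : ∀ g' : X', (∀ y, y ⤳ g' → y = g') → ∀ y, y ⤳ π g' → y = π g' := fun g' hg' y hy => by
    have hgU : g' ∈ π ⁻¹ᵁ U := mem_of_dense_of_maximal hU' hg'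
    have hyU : y ∈ U := hy.mem_open U.2 hgU
    obtain ⟨y', hy'⟩ := (π ∣_ U).homeomorph.surjective (⟨y, hyU⟩ : U)
    have hsp : y' ⤳ (⟨g', hgU⟩ : π ⁻¹ᵁ U) := by
      rw [← (π ∣_ U).homeomorph.isInducing.specializes_iff]
      have e1 : (π ∣_ U).homeomorph y' = (⟨y, hyU⟩ : U) := hy'
      rw [e1]
      exact subtype_specializes_iff _ _ |>.2 (by
        show y ⤳ ((π ∣_ U) (⟨g', hgU⟩ : π ⁻¹ᵁ U)).1
        rw [morphismRestrict_base_coe]
        exact hy)
    have hy'' : y'.1 = g' := hg' _ (subtype_specializes_iff _ _ |>.1 hsp)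
    have h2 : (π ∣_ U) y' = (⟨y, hyU⟩ : U) := hy'
    have h3 := congrArg Subtype.val h2
    rw [morphismRestrict_base_coe] at h3
    exact (h3.symm : y = π y'.1).trans (congrArg (fun z => π z) hy'')
  have hsW : π.app V s ∈ (Γ(X', π ⁻¹ᵁ V))⁰ := mem_nonZeroDivisors_of_maximal _ fun g' hg' hgm => by
    rw [← Scheme.preimage_basicOpen]
    exact hsmax (π g') hg' (hmaxU g' hgm)
  -- over `D(s)` the two rings agree
  have hbij : Function.Bijective (π.app (X.basicOpen s)) := by
    have e : U.ι ''ᵁ (U.ι ⁻¹ᵁ X.basicOpen s) = X.basicOpen s := by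
      rw [Scheme.Hom.image_preimage_eq_opensRange_inf, Scheme.Opens.opensRange_ι]
      exact inf_eq_right.2 hsU
    have h1 : IsIso ((π ∣_ U).app (U.ι ⁻¹ᵁ X.basicOpen s)) := inferInstance
    rw [morphismRestrict_app] at h1
    haveI := h1
    haveI : IsIso (π.app (U.ι ''ᵁ (U.ι ⁻¹ᵁ X.basicOpen s))) :=
      @IsIso.of_isIso_comp_right _ _ _ _ _ (π.app (U.ι ''ᵁ (U.ι ⁻¹ᵁ X.basicOpen s))) (X'.presheaf.map (eqToHom (image_morphismRestrict_preimage π U (U.ι ⁻¹ᵁ X.basicOpen s))).op) inferInstance h1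
    have h2 := ConcreteCategory.bijective_of_isIso (π.app (U.ι ''ᵁ (U.ι ⁻¹ᵁ X.basicOpen s)))
    rwa [e] at h2
  have hsurj : ∀ b : Γ(X', π ⁻¹ᵁ V), ∃ (n : ℕ) (a : Γ(X, V)), π.app V (s ^ n) * b = π.app V a := fun b => by
    haveI := hV.isLocalization_basicOpen s
    obtain ⟨c, hc⟩ := hbij.2 (X'.presheaf.map (homOfLE (π.preimage_mono (X.basicOpen_le s))).op b)
    obtain ⟨⟨a, ⟨_, n, rfl⟩⟩, hca⟩ := IsLocalization.surj (Submonoid.powers s) c
    refine ⟨n, a, ?_⟩
    haveI := hW.isLocalization_basicOpen (π.app V s)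
    have hpre : π ⁻¹ᵁ X.basicOpen s = X'.basicOpen (π.app V s) := Scheme.preimage_basicOpen π s
    have hnat : ∀ t : Γ(X, V), X'.presheaf.map (homOfLE (π.preimage_mono (X.basicOpen_le s))).op (π.app V t) =
        π.app (X.basicOpen s) (algebraMap Γ(X, V) Γ(X, X.basicOpen s) t) := fun t =>
      (ConcreteCategory.congr_hom (π.naturality (homOfLE (X.basicOpen_le s)).op) t).symm
    have h0 : X'.presheaf.map (homOfLE (π.preimage_mono (X.basicOpen_le s))).op (π.app V (s ^ n) * b) =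
        X'.presheaf.map (homOfLE (π.preimage_mono (X.basicOpen_le s))).op (π.app V a) := by
      rw [map_mul, hnat, hnat, ← hc, ← map_mul, mul_comm, hca]
    have h1 : algebraMap Γ(X', π ⁻¹ᵁ V) Γ(X', X'.basicOpen (π.app V s)) (π.app V (s ^ n) * b) =
        algebraMap Γ(X', π ⁻¹ᵁ V) Γ(X', X'.basicOpen (π.app V s)) (π.app V a) := by
      have key : ∀ z : Γ(X', π ⁻¹ᵁ V), X'.presheaf.map (homOfLE hpre.ge).op
          (X'.presheaf.map (homOfLE (π.preimage_mono (X.basicOpen_le s))).op z) =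
            algebraMap Γ(X', π ⁻¹ᵁ V) Γ(X', X'.basicOpen (π.app V s)) z := fun z =>
        (ConcreteCategory.congr_hom (X'.presheaf.map_comp (homOfLE (π.preimage_mono (X.basicOpen_le s))).op
          (homOfLE hpre.ge).op) z).symm
      rw [← key, ← key, h0]
    obtain ⟨⟨_, m, rfl⟩, hm⟩ := (IsLocalization.eq_iff_exists (Submonoid.powers (π.app V s)) _).1 h1
    exact (mul_cancel_left_mem_nonZeroDivisors (pow_mem hsW m)).1 hm
  have hinj : Function.Injective (π.app V) := injective_app_of_dense π U hU V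
  -- localise at the point
  let pp := (hV.primeIdealOf ⟨x, hxV⟩).asIdeal
  letI : Algebra Γ(X, V) (X.presheaf.stalk x) := TopCat.Presheaf.algebra_section_stalk X.presheaf ⟨x, hxV⟩
  haveI : IsLocalization pp.primeCompl (X.presheaf.stalk x) := hV.isLocalization_stalk ⟨x, hxV⟩
  let B' := Localization (Algebra.algebraMapSubmonoid Γ(X', π ⁻¹ᵁ V) pp.primeCompl)
  haveI : IsLocalization (Algebra.algebraMapSubmonoid Γ(X', π ⁻¹ᵁ V) pp.primeCompl) B' := Localization.isLocalization
  haveI : IsLocalization (Submonoid.map (algebraMap Γ(X, V) Γ(X', π ⁻¹ᵁ V)) pp.primeCompl) B' := Localization.isLocalization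
  have hle' : pp.primeCompl ≤ Submonoid.comap (algebraMap Γ(X, V) Γ(X', π ⁻¹ᵁ V))
      (Algebra.algebraMapSubmonoid Γ(X', π ⁻¹ᵁ V) pp.primeCompl) := Submonoid.le_comap_map _
  letI : Algebra (X.presheaf.stalk x) B' :=
    (IsLocalization.map B' (algebraMap Γ(X, V) Γ(X', π ⁻¹ᵁ V)) hle' : X.presheaf.stalk x →+* B').toAlgebra
  haveI : IsScalarTower Γ(X, V) (X.presheaf.stalk x) B' := IsScalarTower.of_algebraMap_eq fun a => by
    rw [RingHom.algebraMap_toAlgebra, IsLocalization.map_eq]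
    exact IsScalarTower.algebraMap_apply Γ(X, V) Γ(X', π ⁻¹ᵁ V) B' a
  haveI : Module.Finite (X.presheaf.stalk x) B' :=
    Module.Finite.of_isLocalization Γ(X, V) Γ(X', π ⁻¹ᵁ V) pp.primeCompl
  haveI : Algebra.IsIntegral (X.presheaf.stalk x) B' := Algebra.IsIntegral.of_finite _ _
  have hA : ∀ a : Γ(X, V), algebraMap (X.presheaf.stalk x) B' (algebraMap Γ(X, V) (X.presheaf.stalk x) a) =
      algebraMap Γ(X', π ⁻¹ᵁ V) B' (π.app V a) := fun a => by
    rw [← IsScalarTower.algebraMap_apply, IsScalarTower.algebraMap_apply Γ(X, V) Γ(X', π ⁻¹ᵁ V) B']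
    rfl
  have hinj' : Function.Injective (algebraMap (X.presheaf.stalk x) B') := by
    refine (injective_iff_map_eq_zero _).2 fun z hz => ?_
    obtain ⟨a, t, rfl⟩ := IsLocalization.exists_mk'_eq pp.primeCompl z
    rw [RingHom.algebraMap_toAlgebra, IsLocalization.map_mk', IsLocalization.mk'_eq_zero_iff] at hz
    obtain ⟨⟨_, u, hu, rfl⟩, hu0⟩ := hz
    exact (IsLocalization.mk'_eq_zero_iff _ _).2 ⟨⟨u, hu⟩, hinj (by
      rw [map_mul, map_zero]; exact hu0)⟩
  have hsA : algebraMap Γ(X, V) (X.presheaf.stalk x) s ∈ (X.presheaf.stalk x)⁰ :=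
    IsLocalization.map_nonZeroDivisors_le pp.primeCompl (X.presheaf.stalk x) ⟨s, hs, rfl⟩
  have hsB : algebraMap (X.presheaf.stalk x) B' (algebraMap Γ(X, V) (X.presheaf.stalk x) s) ∈ B'⁰ := by
    rw [hA]
    exact IsLocalization.map_nonZeroDivisors_le (Algebra.algebraMapSubmonoid Γ(X', π ⁻¹ᵁ V) pp.primeCompl) B' ⟨_, hsW, rfl⟩
  have hsurj' : ∀ b : B', ∃ (n : ℕ) (a : X.presheaf.stalk x),
      algebraMap (X.presheaf.stalk x) B' (algebraMap Γ(X, V) (X.presheaf.stalk x) s ^ n) * b =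
        algebraMap (X.presheaf.stalk x) B' a := fun b => by
    obtain ⟨c, ⟨_, t, ht, rfl⟩, rfl⟩ :=
      IsLocalization.exists_mk'_eq (Algebra.algebraMapSubmonoid Γ(X', π ⁻¹ᵁ V) pp.primeCompl) b
    obtain ⟨n, a, hna⟩ := hsurj c
    refine ⟨n, IsLocalization.mk' _ a ⟨t, ht⟩, ?_⟩
    have hmk : algebraMap (X.presheaf.stalk x) B' (IsLocalization.mk' _ a ⟨t, ht⟩) =
        IsLocalization.mk' B' (π.app V a) (⟨algebraMap Γ(X, V) Γ(X', π ⁻¹ᵁ V) t,
          Submonoid.mem_map.2 ⟨t, ht, rfl⟩⟩ : Algebra.algebraMapSubmonoid Γ(X', π ⁻¹ᵁ V) pp.primeCompl) :=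
      IsLocalization.map_mk' hle' a ⟨t, ht⟩
    rw [← map_pow, hA, hmk, IsLocalization.mul_mk'_eq_mk'_of_mul, hna]
  have hloc : ∀ (P : Ideal B') [P.IsMaximal],
      IsDomain (Localization.AtPrime P) ∧ IsIntegrallyClosed (Localization.AtPrime P) := by
    intro P _
    let q : PrimeSpectrum Γ(X', π ⁻¹ᵁ V) := ⟨P.comap (algebraMap Γ(X', π ⁻¹ᵁ V) B'), inferInstance⟩
    have hqV : hW.fromSpec q ∈ π ⁻¹ᵁ V := by rw [← SetLike.mem_coe, ← hW.range_fromSpec]; exact ⟨q, rfl⟩
    letI := TopCat.Presheaf.algebra_section_stalk X'.presheaf (⟨hW.fromSpec q, hqV⟩ : (π ⁻¹ᵁ V : X'.Opens))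
    haveI h1 : IsLocalization.AtPrime (X'.presheaf.stalk (hW.fromSpec q)) q.asIdeal :=
      hW.isLocalization_stalk' q hqV
    haveI h2 : IsLocalization.AtPrime (Localization.AtPrime P) q.asIdeal :=
      IsLocalization.isLocalization_isLocalization_atPrime_isLocalization
        (Algebra.algebraMapSubmonoid Γ(X', π ⁻¹ᵁ V) pp.primeCompl) (Localization.AtPrime P) P
    let e := (IsLocalization.algEquiv q.asIdeal.primeCompl (X'.presheaf.stalk (hW.fromSpec q))
      (Localization.AtPrime P)).toRingEquiv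
    haveI := (hX' (hW.fromSpec q)).1
    haveI := (hX' (hW.fromSpec q)).2
    exact ⟨e.symm.toMulEquiv.isDomain _, IsIntegrallyClosed.of_equiv e⟩
  obtain ⟨E⟩ := nonempty_algEquiv_integralClosure hinj' hloc _ hsA hsB hsurj'
  -- the stalk of the direct image
  letI := stalkModule (pushO π) hxV
  haveI : IsScalarTower Γ(X, V) (X.presheaf.stalk x) ((pushO π).presheaf.stalk x) :=
    IsScalarTower.of_algebraMap_smul fun _ _ => rfl
  haveI : Coh.IsQCoh (pushO π) := by
    haveI : (Coh.structureModule X').IsQuasicoherent := M1.isQCoh_structureModule X'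
    exact M1.isQCoh_push π (M1.isQCoh_structureModule X')
  let L : Γ(pushO π, V) ≃ₗ[Γ(X, V)] Γ(X', π ⁻¹ᵁ V) :=
    { toFun := fun a => a
      invFun := fun a => a
      left_inv := fun _ => rfl
      right_inv := fun _ => rfl
      map_add' := fun _ _ => rfl
      map_smul' := fun _ _ => rfl }
  haveI h1 : IsLocalizedModule pp.primeCompl (IsScalarTower.toAlgHom Γ(X, V) Γ(X', π ⁻¹ᵁ V) B').toLinearMap :=
    (isLocalizedModule_iff_isLocalization).2 inferInstance
  let g := (IsScalarTower.toAlgHom Γ(X, V) Γ(X', π ⁻¹ᵁ V) B').toLinearMap ∘ₗ L.toLinearMap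
  haveI h2 : IsLocalizedModule pp.primeCompl g := IsLocalizedModule.of_linearEquiv_right _ _ L
  haveI h3 := isLocalizedModule_germ (pushO π) hV hxV
  let Φ := (IsLocalizedModule.linearEquiv pp.primeCompl (germₗ (pushO π) hxV) g).extendScalarsOfIsLocalization
    pp.primeCompl (X.presheaf.stalk x)
  refine ⟨Φ.trans E.toLinearEquiv, ?_⟩
  rw [stalkLin_apply, germ_naturality, LinearEquiv.trans_apply,
    show (pushO π).presheaf.germ ⊤ x trivial ((ClSub.unitToPush π).app ⊤ (one ⊤)) =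
      germₗ (pushO π) hxV ((pushO π).presheaf.map (homOfLE (le_top : V ≤ ⊤)).op ((ClSub.unitToPush π).app ⊤ (one ⊤))) from
      ((pushO π).presheaf.germ_res_apply (homOfLE le_top) x hxV _).symm]
  rw [show Φ (germₗ (pushO π) hxV ((pushO π).presheaf.map (homOfLE (le_top : V ≤ ⊤)).op ((ClSub.unitToPush π).app ⊤ (one ⊤)))) =
      g ((pushO π).presheaf.map (homOfLE (le_top : V ≤ ⊤)).op ((ClSub.unitToPush π).app ⊤ (one ⊤))) from
      IsLocalizedModule.linearEquiv_apply pp.primeCompl (germₗ (pushO π) hxV) g _]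
  show E (algebraMap Γ(X', π ⁻¹ᵁ V) B' (X'.presheaf.map _ (π.app ⊤ (1 : Γ(X, ⊤))))) = 1
  rw [map_one, map_one, map_one]
  exact map_one E

end Groth.Agent.NormStalk17
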